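import Mathlib

set_option autoImplicit false

namespace Cfsg.Agent.Lib.Helper6.EPow

variable {G : Type*} [Group G] {G' : Type*} [Group G'] {p : ℕ}

/-- `p`-th powers lie in the derived subgroup -/
def EPs (p : ℕ) (H : Subgroup G) : Prop := ∀ x ∈ H, x ^ p ∈ ⁅H, H⁆

theorem EPs.map (f : G →* G') {H : Subgroup G} (h : EPs p H) : EPs p (H.map f) := by
  rintro _ ⟨x, hx, rfl⟩
  rw [← map_pow, ← Subgroup.map_commutator]
  exact Subgroup.mem_map_of_mem f (h x hx)

theorem EPs.of_map (f : G →* G') (hf : Function.Injective f) {H : Subgroup G}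
    (h : EPs p (H.map f)) : EPs p H := by
  intro x hx
  have := h (f x) (Subgroup.mem_map_of_mem f hx)
  rw [← map_pow, ← Subgroup.map_commutator] at this
  obtain ⟨y, hy, hyx⟩ := this
  rwa [← hf hyx]

theorem EPs_iff (H : Subgroup G) : EPs p H ↔ ∀ x : H, x ^ p ∈ commutator H := by
  constructor
  · intro h x
    have h1 := h x.1 x.2
    rw [← Subgroup.map_subtype_commutator] at h1
    obtain ⟨c, hc, hcx⟩ := h1
    have : c = x ^ p := Subtype.ext hcx
    rwa [← this]
  · intro h x hx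
    rw [← Subgroup.map_subtype_commutator]
    exact ⟨_, h ⟨x, hx⟩, rfl⟩

theorem EPs.sup {Q T : Subgroup G} (hQ : EPs p Q) (hT : EPs p T) : EPs p (Q ⊔ T) := by
  let ψ : ↥(Q ⊔ T) →* Abelianization ↥(Q ⊔ T) := (powMonoidHom p).comp Abelianization.of
  have hψ : ∀ y : ↥(Q ⊔ T), ψ y = 1 ↔ y ^ p ∈ commutator ↥(Q ⊔ T) := by
    intro y
    show (Abelianization.of y) ^ p = 1 ↔ _
    rw [← map_pow, ← MonoidHom.mem_ker, Abelianization.ker_of]
  have key : ∀ H : Subgroup G, H ≤ Q ⊔ T → EPs p H → H ≤ (ψ.ker).map (Q ⊔ T).subtype := by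
    intro H hHR hH x hx
    refine ⟨⟨x, hHR hx⟩, ?_, rfl⟩
    rw [SetLike.mem_coe, MonoidHom.mem_ker, hψ]
    have h1 : x ^ p ∈ ⁅Q ⊔ T, Q ⊔ T⁆ := Subgroup.commutator_mono hHR hHR (hH x hx)
    rw [← Subgroup.map_subtype_commutator] at h1
    obtain ⟨c, hc, hcx⟩ := h1
    have : c = (⟨x, hHR hx⟩ : ↥(Q ⊔ T)) ^ p := Subtype.ext hcx
    rwa [← this]
  have hle : Q ⊔ T ≤ (ψ.ker).map (Q ⊔ T).subtype :=
    sup_le (key Q le_sup_left hQ) (key T le_sup_right hT)
  rw [EPs_iff]
  intro x
  obtain ⟨y, hy, hyx⟩ := hle x.2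
  have : y = x := Subtype.ext hyx
  rw [← this, ← hψ]
  exact hy

theorem EPs_sylow [Finite G] [Fact p.Prime] (Q T : Subgroup G) (hQp : IsPGroup p Q)
    (hTp : IsPGroup p T) (hN : ∀ t ∈ T, ∀ q ∈ Q, t * q * t⁻¹ ∈ Q)
    (hD : ∀ x, x ∈ Q → x ∈ T → x = 1)
    (hcard : p ^ (Nat.card G).factorization p ≤ Nat.card Q * Nat.card T)
    (hQ : EPs p Q) (hT : EPs p T) (P : Sylow p G) : EPs p (P : Subgroup G) := by
  have hR : IsPGroup p (T ⊔ Q : Subgroup G) := by
    refine IsPGroup.to_sup_of_normal_right' hTp hQp ?_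
    intro t ht
    exact Subgroup.mem_normalizer_fintype (fun q hq => hN t ht q hq)
  have hc : Nat.card Q * Nat.card T ≤ Nat.card (T ⊔ Q : Subgroup G) := by
    rw [← Nat.card_prod]
    have hdis : Disjoint Q T := Subgroup.disjoint_def.mpr (fun {x} h1 h2 => hD x h1 h2)
    refine Nat.card_le_card_of_injective
      (fun g : Q × T => (⟨g.1 * g.2, Subgroup.mul_mem _ (Subgroup.mem_sup_right g.1.2)
        (Subgroup.mem_sup_left g.2.2)⟩ : (T ⊔ Q : Subgroup G))) ?_
    intro a b hab
    exact Subgroup.mul_injective_of_disjoint hdis (congrArg Subtype.val hab)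
  obtain ⟨S₀, hS₀⟩ := hR.exists_le_sylow
  have hEq : (T ⊔ Q : Subgroup G) = S₀ := by
    apply Subgroup.eq_of_le_of_card_ge hS₀
    rw [Sylow.card_eq_multiplicity]
    exact hcard.trans hc
  have hS : EPs p (S₀ : Subgroup G) := by rw [← hEq]; exact hT.sup hQ
  obtain ⟨g, hg⟩ := MulAction.exists_smul_eq G S₀ P
  rw [← hg, Sylow.coe_subgroup_smul]
  exact hS.map _

section Perm

/-- base group -/
def base₀ (m p : ℕ) : (Fin m → Multiplicative (ZMod p)) →* Equiv.Perm (Fin m × ZMod p) where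
  toFun v := ⟨fun x => (x.1, x.2 + Multiplicative.toAdd (v x.1)),
    fun x => (x.1, x.2 - Multiplicative.toAdd (v x.1)),
    fun x => Prod.ext rfl (by simp), fun x => Prod.ext rfl (by simp)⟩
  map_one' := Equiv.ext fun x => Prod.ext rfl (by simp)
  map_mul' v w := Equiv.ext fun x => Prod.ext rfl (by
    show x.2 + Multiplicative.toAdd ((v * w) x.1)
      = x.2 + Multiplicative.toAdd (w x.1) + Multiplicative.toAdd (v x.1)
    simp [add_comm, add_left_comm])

theorem base₀_apply (m p : ℕ) (v : Fin m → Multiplicative (ZMod p)) (x : Fin m × ZMod p) :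
    base₀ m p v x = (x.1, x.2 + Multiplicative.toAdd (v x.1)) := rfl

/-- top group -/
def top₀ (m p : ℕ) : Equiv.Perm (Fin m) →* Equiv.Perm (Fin m × ZMod p) where
  toFun σ := Equiv.prodCongrLeft (fun _ => σ)
  map_one' := Equiv.ext fun x => rfl
  map_mul' σ τ := Equiv.ext fun x => rfl

theorem top₀_apply (m p : ℕ) (σ : Equiv.Perm (Fin m)) (x : Fin m × ZMod p) :
    top₀ m p σ x = (σ x.1, x.2) := rfl

theorem base₀_inj (m p : ℕ) : Function.Injective (base₀ m p) := by
  intro v w h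
  funext i
  have := congrArg Prod.snd (congrFun (congrArg (fun f : Equiv.Perm _ => (f : _ → _)) h) (i, 0))
  simpa [base₀_apply] using this

theorem top₀_inj (m p : ℕ) : Function.Injective (top₀ m p) := by
  intro v w h
  ext i
  have := congrArg Prod.fst (congrFun (congrArg (fun f : Equiv.Perm _ => (f : _ → _)) h) (i, 0))
  simpa [top₀_apply] using congrArg Fin.val this

theorem top_base (m p : ℕ) (σ : Equiv.Perm (Fin m)) (v : Fin m → Multiplicative (ZMod p)) :
    top₀ m p σ * base₀ m p v * (top₀ m p σ)⁻¹ = base₀ m p (fun i => v (σ⁻¹ i)) := by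
  rw [mul_inv_eq_iff_eq_mul]
  refine Equiv.ext fun x => ?_
  show top₀ m p σ (base₀ m p v x) = base₀ m p (fun i => v (σ⁻¹ i)) (top₀ m p σ x)
  simp [top₀_apply, base₀_apply]

theorem base_eq_top (m p : ℕ) (σ : Equiv.Perm (Fin m)) (v : Fin m → Multiplicative (ZMod p))
    (h : base₀ m p v = top₀ m p σ) : v = 1 := by
  funext i
  have := congrArg Prod.snd (congrFun (congrArg (fun f : Equiv.Perm _ => (f : _ → _)) h) (i, 0))
  simpa [base₀_apply, top₀_apply] using this

theorem card_X (m a : ℕ) (hm0 : m ≠ 0) : Nat.card (Fin a → Multiplicative (ZMod m)) = m ^ a := by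
  have : NeZero m := ⟨hm0⟩
  rw [Nat.card_fun, Nat.card_eq_fintype_card (α := Fin _), Fintype.card_fin]
  congr 1
  exact Nat.card_zmod _

theorem X_pow (m a : ℕ) (hm0 : m ≠ 0) (v : Fin a → Multiplicative (ZMod m)) : v ^ m = 1 := by
  have : NeZero m := ⟨hm0⟩
  funext i
  have h1 : Nat.card (Multiplicative (ZMod m)) = m := Nat.card_zmod _
  have := pow_card_eq_one' (x := v i)
  rwa [h1] at this

/-- transport into `Perm α` -/
def Phi {γ δ α : Type*} (e : γ ⊕ δ ≃ α) : Equiv.Perm γ →* Equiv.Perm α :=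
  (e.permCongrHom).toMonoidHom.comp ((Equiv.Perm.sumCongrHom γ δ).comp (MonoidHom.inl _ _))

theorem Phi_inj {γ δ α : Type*} (e : γ ⊕ δ ≃ α) : Function.Injective (Phi e) := by
  refine e.permCongrHom.injective.comp (Equiv.Perm.sumCongrHom_injective.comp ?_)
  intro x y h
  exact (Prod.ext_iff.mp h).1

theorem Phi_sign {γ δ α : Type*} [Fintype γ] [DecidableEq γ] [Fintype δ] [DecidableEq δ]
    [Fintype α] [DecidableEq α] (e : γ ⊕ δ ≃ α) (x : Equiv.Perm γ) :
    Equiv.Perm.sign (Phi e x) = Equiv.Perm.sign x := by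
  show Equiv.Perm.sign (e.permCongr (Equiv.Perm.sumCongr x 1)) = _
  rw [Equiv.Perm.sign_permCongr, Equiv.Perm.sign_sumCongr, Equiv.Perm.sign_one, mul_one]

theorem fac_factorial (p : ℕ) [hp : Fact p.Prime] (m s : ℕ) (hs : s < p) :
    ((p * m + s).factorial).factorization p = m + (m.factorial).factorization p := by
  rw [Nat.factorization_def _ hp.out, Nat.factorization_def _ hp.out,
    padicValNat_factorial_mul_add m hs, padicValNat_factorial_mul, add_comm]

theorem EPs_of_card_one {H : Subgroup G} (h : Nat.card H = 1) : EPs p H := by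
  rw [Subgroup.card_eq_one] at h
  intro x hx
  rw [h, Subgroup.mem_bot] at hx
  rw [hx, one_pow]
  exact one_mem _

theorem EPs_of_exp {H : Subgroup G} (h : ∀ x ∈ H, x ^ p = 1) : EPs p H := by
  intro x hx
  rw [h x hx]
  exact one_mem _

theorem isPGroup_of_exp {H : Subgroup G} (h : ∀ x ∈ H, x ^ p = 1) : IsPGroup p H := by
  intro x
  refine ⟨1, Subtype.ext ?_⟩
  simpa using h x.1 x.2

theorem EPs_perm (p : ℕ) [hp : Fact p.Prime] : ∀ (n : ℕ) (α : Type) [Fintype α] [DecidableEq α],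
    Fintype.card α = n → ∀ P : Sylow p (Equiv.Perm α), EPs p (P : Subgroup (Equiv.Perm α)) := by
  intro n
  induction n using Nat.strong_induction_on with
  | _ n ih =>
    intro α _ _ hα P
    have hp0 : p ≠ 0 := hp.out.ne_zero
    have : NeZero p := ⟨hp0⟩
    obtain ⟨m, s, hs, hn⟩ : ∃ m s, s < p ∧ n = p * m + s :=
      ⟨n / p, n % p, Nat.mod_lt _ hp.out.pos, (Nat.div_add_mod n p).symm⟩
    have hcardG : Nat.card (Equiv.Perm α) = n.factorial := by
      rw [Nat.card_eq_fintype_card, Fintype.card_perm, hα]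
    by_cases hm : m = 0
    · apply EPs_of_card_one
      rw [Sylow.card_eq_multiplicity, hcardG,
        Nat.factorization_factorial_eq_zero_of_lt (by rw [hn, hm]; simpa using hs), pow_zero]
    have hmn : m < n := by
      have h2 := hp.out.two_le
      have : 2 * m ≤ p * m := Nat.mul_le_mul_right m h2
      omega
    obtain ⟨Pm⟩ : Nonempty (Sylow p (Equiv.Perm (Fin m))) := inferInstance
    have hPm := ih m hmn (Fin m) (Fintype.card_fin m) Pm
    let e : (Fin m × ZMod p) ⊕ Fin s ≃ α := Fintype.equivOfCardEq (by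
      rw [Fintype.card_sum, Fintype.card_prod, Fintype.card_fin, Fintype.card_fin, ZMod.card, hα, hn,
        mul_comm])
    have hQexp : ∀ q ∈ ((base₀ m p).range.map (Phi e)), q ^ p = 1 := by
      rintro _ ⟨_, ⟨v, rfl⟩, rfl⟩
      rw [← map_pow, ← map_pow, X_pow p m hp0, map_one, map_one]
    have hT1 : IsPGroup p ((Pm : Subgroup (Equiv.Perm (Fin m))).map (top₀ m p)) :=
      IsPGroup.map Pm.isPGroup' (top₀ m p)
    have hT2 : IsPGroup p (((Pm : Subgroup (Equiv.Perm (Fin m))).map (top₀ m p)).map (Phi e)) :=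
      IsPGroup.map hT1 (Phi e)
    have hE2 : EPs p (((Pm : Subgroup (Equiv.Perm (Fin m))).map (top₀ m p)).map (Phi e)) :=
      (hPm.map (top₀ m p)).map (Phi e)
    refine EPs_sylow ((base₀ m p).range.map (Phi e))
      (((Pm : Subgroup (Equiv.Perm (Fin m))).map (top₀ m p)).map (Phi e))
      (isPGroup_of_exp hQexp) hT2 ?_ ?_ ?_ (EPs_of_exp hQexp) hE2 P
    · rintro _ ⟨_, ⟨σ, _, rfl⟩, rfl⟩ _ ⟨_, ⟨v, rfl⟩, rfl⟩
      rw [← map_inv, ← map_mul, ← map_mul, top_base]
      exact ⟨_, ⟨_, rfl⟩, rfl⟩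
    · rintro _ ⟨_, ⟨v, rfl⟩, rfl⟩ ⟨_, ⟨σ, _, rfl⟩, h⟩
      have h1 := base_eq_top m p σ v (Phi_inj e h).symm
      rw [h1, map_one, map_one]
    · rw [Subgroup.card_map_of_injective (Phi_inj e), Subgroup.card_map_of_injective (Phi_inj e),
        Subgroup.card_map_of_injective (top₀_inj m p),
        ← Nat.card_congr (MonoidHom.ofInjective (base₀_inj m p)).toEquiv, card_X p m hp0,
        Sylow.card_eq_multiplicity, hcardG, hn, fac_factorial p m s hs, pow_add,
        Nat.card_eq_fintype_card, Fintype.card_perm, Fintype.card_fin]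

theorem card_subgroupOf_of_le {H K : Subgroup G} (h : H ≤ K) :
    Nat.card (H.subgroupOf K) = Nat.card H := by
  rw [← Subgroup.card_map_of_injective K.subtype_injective, Subgroup.subgroupOf_map_subtype,
    inf_eq_left.mpr h]

theorem card_subgroupOf_comm (H K : Subgroup G) :
    Nat.card (H.subgroupOf K) = Nat.card (K.subgroupOf H) := by
  rw [← Subgroup.card_map_of_injective K.subtype_injective, Subgroup.subgroupOf_map_subtype,
    ← Subgroup.card_map_of_injective H.subtype_injective, Subgroup.subgroupOf_map_subtype,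
    inf_comm]

theorem EPs_alt (p : ℕ) [hp : Fact p.Prime] (n : ℕ) (Q : Sylow p (alternatingGroup (Fin n))) :
    EPs p (Q : Subgroup (alternatingGroup (Fin n))) := by
  classical
  by_cases hn : n ≤ 1
  · have : Subsingleton (Fin n) := Fin.subsingleton_iff_le_one.mpr hn
    apply EPs_of_card_one
    rw [Nat.card_eq_one_iff_unique]
    exact ⟨⟨fun a b => Subtype.ext (Subtype.ext (Subsingleton.elim _ _))⟩, ⟨1⟩⟩
  have : Nontrivial (Fin n) := Fin.nontrivial_iff_two_le.mpr (by omega)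
  have hA : 2 * Nat.card (alternatingGroup (Fin n)) = n.factorial := by
    rw [two_mul_nat_card_alternatingGroup, Nat.card_eq_fintype_card, Fintype.card_perm,
      Fintype.card_fin]
  have hA0 : Nat.card (alternatingGroup (Fin n)) ≠ 0 := Nat.card_pos.ne'
  have hfac : (2 : ℕ).factorization p + (Nat.card (alternatingGroup (Fin n))).factorization p
      = (n.factorial).factorization p := by
    rw [← hA, Nat.factorization_mul (by norm_num) hA0, Finsupp.add_apply]
  by_cases hp2 : p = 2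
  · subst hp2
    obtain ⟨m, s, hs, hnm⟩ : ∃ m s, s < 2 ∧ n = 2 * m + s :=
      ⟨n / 2, n % 2, Nat.mod_lt _ (by norm_num), (Nat.div_add_mod n 2).symm⟩
    obtain ⟨Pm⟩ : Nonempty (Sylow 2 (Equiv.Perm (Fin m))) := inferInstance
    have hPm := EPs_perm 2 m (Fin m) (Fintype.card_fin m) Pm
    let e : (Fin m × ZMod 2) ⊕ Fin s ≃ Fin n := Fintype.equivOfCardEq (by
      rw [Fintype.card_sum, Fintype.card_prod, Fintype.card_fin, Fintype.card_fin, ZMod.card,
        Fintype.card_fin, hnm, mul_comm])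
    obtain ⟨QΦ, hQΦ⟩ : ∃ QΦ, QΦ = (base₀ m 2).range.map (Phi e) := ⟨_, rfl⟩
    obtain ⟨TΦ, hTΦ⟩ : ∃ TΦ, TΦ = ((Pm : Subgroup (Equiv.Perm (Fin m))).map (top₀ m 2)).map (Phi e) :=
      ⟨_, rfl⟩
    have hQexp : ∀ q ∈ QΦ, q ^ 2 = 1 := by
      rw [hQΦ]
      rintro _ ⟨_, ⟨v, rfl⟩, rfl⟩
      rw [← map_pow, ← map_pow, X_pow 2 m (by norm_num), map_one, map_one]
    have hT2 : IsPGroup 2 TΦ := by
      rw [hTΦ]
      exact IsPGroup.map (IsPGroup.map Pm.isPGroup' (top₀ m 2)) (Phi e)
    have hE2 : EPs 2 TΦ := by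
      rw [hTΦ]
      exact (hPm.map (top₀ m 2)).map (Phi e)
    have hTA : TΦ ≤ alternatingGroup (Fin n) := by
      rw [hTΦ]
      rintro _ ⟨_, ⟨σ, _, rfl⟩, rfl⟩
      rw [Equiv.Perm.mem_alternatingGroup, Phi_sign]
      show Equiv.Perm.sign (Equiv.prodCongrLeft (fun _ : ZMod 2 => σ)) = 1
      rw [Equiv.Perm.sign_prodCongrLeft, Finset.prod_const, Finset.card_univ, ZMod.card,
        Int.units_sq]
    have hN : ∀ t ∈ TΦ, ∀ q ∈ QΦ, t * q * t⁻¹ ∈ QΦ := by
      rw [hTΦ, hQΦ]
      rintro _ ⟨_, ⟨σ, _, rfl⟩, rfl⟩ _ ⟨_, ⟨v, rfl⟩, rfl⟩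
      rw [← map_inv, ← map_mul, ← map_mul, top_base]
      exact ⟨_, ⟨_, rfl⟩, rfl⟩
    have hD : ∀ x, x ∈ QΦ → x ∈ TΦ → x = 1 := by
      rw [hTΦ, hQΦ]
      rintro _ ⟨_, ⟨v, rfl⟩, rfl⟩ ⟨_, ⟨σ, _, rfl⟩, h⟩
      have h1 := base_eq_top m 2 σ v (Phi_inj e h).symm
      rw [h1, map_one, map_one]
    have hcQ : Nat.card QΦ = 2 ^ m := by
      rw [hQΦ, Subgroup.card_map_of_injective (Phi_inj e),
        ← Nat.card_congr (MonoidHom.ofInjective (base₀_inj m 2)).toEquiv, card_X 2 m (by norm_num)]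
    have hcT : Nat.card TΦ = 2 ^ (m.factorial).factorization 2 := by
      rw [hTΦ, Subgroup.card_map_of_injective (Phi_inj e),
        Subgroup.card_map_of_injective (top₀_inj m 2), Sylow.card_eq_multiplicity,
        Nat.card_eq_fintype_card, Fintype.card_perm, Fintype.card_fin]
    have hQA : ∀ x ∈ QΦ.subgroupOf (alternatingGroup (Fin n)), x ^ 2 = 1 := by
      intro x hx
      exact Subtype.ext (hQexp x.1 hx)
    refine EPs_sylow (QΦ.subgroupOf (alternatingGroup (Fin n)))
      (TΦ.subgroupOf (alternatingGroup (Fin n))) (isPGroup_of_exp hQA) hT2.comap_subtype ?_ ?_ ?_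
      (EPs_of_exp hQA) ?_ Q
    · intro t ht q hq
      exact hN t.1 ht q.1 hq
    · intro x hx1 hx2
      exact Subtype.ext (hD x.1 hx1 hx2)
    · rw [card_subgroupOf_of_le hTA, hcT]
      have h1 := Subgroup.card_mul_index ((alternatingGroup (Fin n)).subgroupOf QΦ)
      have h2 : ((alternatingGroup (Fin n)).subgroupOf QΦ).index ≤ 2 := by
        have := Subgroup.relIndex_dvd_index_of_normal (alternatingGroup (Fin n)) QΦ
        rw [alternatingGroup.index_eq_two] at this
        exact Nat.le_of_dvd (by norm_num) this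
      rw [card_subgroupOf_comm, hcQ] at h1
      have h3 : 2 ^ m ≤ Nat.card (QΦ.subgroupOf (alternatingGroup (Fin n))) * 2 := by
        rw [← h1]; exact Nat.mul_le_mul_left _ h2
      have h4 : (2 : ℕ).factorization 2 = 1 := by simp [Nat.Prime.factorization_self Nat.prime_two]
      rw [h4, hnm, fac_factorial 2 m s hs] at hfac
      have h5 : 2 * 2 ^ (Nat.card (alternatingGroup (Fin n))).factorization 2
          = 2 ^ m * 2 ^ (m.factorial).factorization 2 := by
        rw [← pow_succ', ← pow_add]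
        congr 1
        rw [hnm]
        omega
      have h6 := Nat.mul_le_mul_right (2 ^ (m.factorial).factorization 2) h3
      rw [← h5] at h6
      nlinarith
    · apply EPs.of_map (alternatingGroup (Fin n)).subtype (Subgroup.subtype_injective _)
      rw [Subgroup.subgroupOf_map_subtype, inf_eq_left.mpr hTA]
      exact hE2
  · have h2 : (2 : ℕ).factorization p = 0 := by
      apply Nat.factorization_eq_zero_of_not_dvd
      intro h
      exact hp2 ((Nat.prime_dvd_prime_iff_eq hp.out Nat.prime_two).mp h)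
    rw [h2, zero_add] at hfac
    apply EPs.of_map (alternatingGroup (Fin n)).subtype (Subgroup.subtype_injective _)
    have hc : Nat.card ((Q : Subgroup (alternatingGroup (Fin n))).map
        (alternatingGroup (Fin n)).subtype)
        = p ^ (Nat.card (Equiv.Perm (Fin n))).factorization p := by
      rw [Subgroup.card_map_of_injective (Subgroup.subtype_injective _), Sylow.card_eq_multiplicity,
        hfac, Nat.card_eq_fintype_card, Fintype.card_perm, Fintype.card_fin]
    exact EPs_perm p n (Fin n) (Fintype.card_fin n) (Sylow.ofCard _ hc)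

end Perm

end Cfsg.Agent.Lib.Helper6.EPow
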