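import Mathlib
import Cfsg.Agent.Lib.Helper6.EPow
import Cfsg.Agent.Lib.Helper18.UniqueInv

set_option autoImplicit false

namespace Cfsg.Agent.Lib.Helper6.EPowSp

open Cfsg.Agent.Lib.Helper6.EPow

variable {G : Type*} [Group G] {G' : Type*} [Group G'] {p : ℕ}

theorem EPs_top_iff : EPs p (⊤ : Subgroup G) ↔ ∀ x : G, x ^ p ∈ commutator G := by
  unfold EPs
  rw [commutator_def]
  simp

theorem EPs_top_of_equiv (e : G ≃* G') (h : EPs p (⊤ : Subgroup G)) : EPs p (⊤ : Subgroup G') := by
  have := h.map e.toMonoidHom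
  rwa [Subgroup.map_top_of_surjective _ e.surjective] at this

theorem EPs_quaternion (k : ℕ) : EPs 2 (⊤ : Subgroup (QuaternionGroup (2 * (k + 1)))) := by
  rw [EPs_top_iff]
  have h1 : (QuaternionGroup.a (-2) : QuaternionGroup (2 * (k + 1)))
      ∈ commutator (QuaternionGroup (2 * (k + 1))) := by
    have h0 : (QuaternionGroup.a (-2) : QuaternionGroup (2 * (k + 1)))
        * (QuaternionGroup.a 1 * QuaternionGroup.xa 0)
        = QuaternionGroup.xa 0 * QuaternionGroup.a 1 := by
      simp only [QuaternionGroup.xa_mul_a, QuaternionGroup.a_mul_xa]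
      congr 1
      ring
    have : (QuaternionGroup.a (-2) : QuaternionGroup (2 * (k + 1)))
        = QuaternionGroup.xa 0 * QuaternionGroup.a 1 * (QuaternionGroup.xa 0)⁻¹
          * (QuaternionGroup.a 1)⁻¹ := by
      rw [mul_assoc, ← mul_inv_rev, eq_mul_inv_iff_mul_eq, h0]
    rw [this, commutator_def]
    exact Subgroup.commutator_mem_commutator (Subgroup.mem_top _) (Subgroup.mem_top _)
  have h2 : (QuaternionGroup.a 2 : QuaternionGroup (2 * (k + 1)))
      ∈ commutator (QuaternionGroup (2 * (k + 1))) := by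
    have h0 : (QuaternionGroup.a 2 : QuaternionGroup (2 * (k + 1))) * QuaternionGroup.a (-2) = 1 := by
      rw [QuaternionGroup.a_mul_a, QuaternionGroup.one_def]
      congr 1
      ring
    rw [eq_inv_of_mul_eq_one_left h0]
    exact inv_mem h1
  have h3 : ∀ j : ℕ, (QuaternionGroup.a (2 * (j : ZMod (2 * (2 * (k + 1))))) :
      QuaternionGroup (2 * (k + 1))) ∈ commutator (QuaternionGroup (2 * (k + 1))) := by
    intro j
    induction j with
    | zero => simp
    | succ j ih =>
      have := mul_mem ih h2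
      rw [QuaternionGroup.a_mul_a] at this
      convert this using 2
      push_cast
      ring
  intro x
  rcases x with i | i
  · rw [pow_two, QuaternionGroup.a_mul_a]
    have := h3 i.val
    rw [ZMod.natCast_zmod_val] at this
    convert this using 2
    ring
  · rw [pow_two, QuaternionGroup.xa_mul_xa]
    have := h3 (k + 1)
    convert this using 2
    push_cast
    ring

theorem EPs_pi {ι : Type*} [Fintype ι] [DecidableEq ι] (h : EPs p (⊤ : Subgroup G)) :
    EPs p (⊤ : Subgroup (ι → G)) := by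
  rw [EPs_top_iff] at h ⊢
  intro x
  rw [← Finset.noncommProd_mulSingle (x ^ p)]
  apply Subgroup.noncommProd_mem
  intro i _
  have h1 : Pi.mulSingle i ((x ^ p) i) = MonoidHom.mulSingle (fun _ : ι => G) i ((x i) ^ p) := rfl
  rw [h1]
  have h2 : (commutator G).map (MonoidHom.mulSingle (fun _ : ι => G) i) ≤ commutator (ι → G) := by
    rw [commutator_def, commutator_def, Subgroup.map_commutator]
    exact Subgroup.commutator_mono le_top le_top
  exact h2 (Subgroup.mem_map_of_mem _ (h (x i)))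

section SL2

open Matrix

variable {F : Type*} [Field F]

theorem sl2_invol (h2 : (2 : F) ≠ 0) (x : SpecialLinearGroup (Fin 2) F) (hx : x * x = 1) :
    x = 1 ∨ x = -1 := by
  have hm : x.1 * x.1 = 1 := congrArg Subtype.val hx
  have e00 := congrFun (congrFun hm 0) 0
  have e01 := congrFun (congrFun hm 0) 1
  have e10 := congrFun (congrFun hm 1) 0
  have e11 := congrFun (congrFun hm 1) 1
  have hdet := x.2
  rw [Matrix.det_fin_two] at hdet
  simp [Matrix.mul_apply, Fin.sum_univ_two] at e00 e01 e10 e11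
  obtain ⟨a, ha⟩ : ∃ a, a = x.1 0 0 := ⟨_, rfl⟩
  obtain ⟨b, hb⟩ : ∃ b, b = x.1 0 1 := ⟨_, rfl⟩
  obtain ⟨c, hc⟩ : ∃ c, c = x.1 1 0 := ⟨_, rfl⟩
  obtain ⟨d, hd⟩ : ∃ d, d = x.1 1 1 := ⟨_, rfl⟩
  have ha' : x 0 0 = a := ha.symm
  have hb' : x 0 1 = b := hb.symm
  have hc' : x 1 0 = c := hc.symm
  have hd' : x 1 1 = d := hd.symm
  rw [← ha, ← hb, ← hc, ← hd] at hdet
  simp only [ha', hb', hc', hd'] at e00 e01 e10 e11
  have hs : (a + d - 2) * (a + d + 2) = 0 := by linear_combination e00 + e11 + 2 * hdet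
  have h4 : (4 : F) ≠ 0 := by
    have : (4 : F) = 2 * 2 := by norm_num
    rw [this]; exact mul_ne_zero h2 h2
  rcases mul_eq_zero.mp hs with h | h
  · left
    have hsum : a + d = 2 := by linear_combination h
    have hb0 : b = 0 := by
      have : 2 * b = 0 := by linear_combination e01 - b * hsum
      exact (mul_eq_zero.mp this).resolve_left h2
    have hc0 : c = 0 := by
      have : 2 * c = 0 := by linear_combination e10 - c * hsum
      exact (mul_eq_zero.mp this).resolve_left h2
    have ha1 : a = 1 := by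
      have : (a - 1) ^ 2 = 0 := by
        rw [hb0] at hdet
        linear_combination a * hsum - hdet
      exact sub_eq_zero.mp (pow_eq_zero_iff (by norm_num) |>.mp this)
    have hd1 : d = 1 := by linear_combination hsum - ha1
    apply Subtype.ext
    ext i j
    fin_cases i <;> fin_cases j
    · exact ha.symm.trans ha1
    · exact hb.symm.trans hb0
    · exact hc.symm.trans hc0
    · exact hd.symm.trans hd1
  · right
    have hsum : a + d = -2 := by linear_combination h
    have hb0 : b = 0 := by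
      have : 2 * b = 0 := by linear_combination -e01 + b * hsum
      exact (mul_eq_zero.mp this).resolve_left h2
    have hc0 : c = 0 := by
      have : 2 * c = 0 := by linear_combination -e10 + c * hsum
      exact (mul_eq_zero.mp this).resolve_left h2
    have ha1 : a = -1 := by
      have : (a + 1) ^ 2 = 0 := by
        rw [hb0] at hdet
        linear_combination a * hsum - hdet
      exact eq_neg_of_add_eq_zero_left (pow_eq_zero_iff (by norm_num) |>.mp this)
    have hd1 : d = -1 := by linear_combination hsum - ha1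
    apply Subtype.ext
    ext i j
    fin_cases i <;> fin_cases j
    · simpa using ha.symm.trans ha1
    · simpa using hb.symm.trans hb0
    · simpa using hc.symm.trans hc0
    · simpa using hd.symm.trans hd1

omit [Field F] in
theorem isPGroup_zpowers' {H : Type*} [Group H] (x : H) (k : ℕ) (hx : x ^ 2 ^ k = 1) :
    IsPGroup 2 (Subgroup.zpowers x) := by
  rintro ⟨_, ⟨m, rfl⟩⟩
  refine ⟨k, Subtype.ext ?_⟩
  show (x ^ m) ^ 2 ^ k = 1
  rw [← zpow_natCast, ← _root_.zpow_mul, mul_comm, _root_.zpow_mul, zpow_natCast, hx, _root_.one_zpow]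

theorem sl2_nonabelian [Fintype F] (hF : Odd (Fintype.card F)) :
    ∃ T : Subgroup (SpecialLinearGroup (Fin 2) F), IsPGroup 2 T ∧
      ∃ x ∈ T, ∃ y ∈ T, x * y ≠ y * x := by
  classical
  have h2 : (2 : F) ≠ 0 := by
    apply Ring.two_ne_zero
    intro h
    rw [FiniteField.even_card_iff_char_two] at h
    obtain ⟨k, hk⟩ := hF
    omega
  obtain ⟨a, b, hab⟩ := FiniteField.exists_root_sum_quadratic (R := F)
    (f := Polynomial.X ^ 2) (g := Polynomial.X ^ 2 + 1) (Polynomial.degree_X_pow 2)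
    (by
      rw [show (Polynomial.X ^ 2 + 1 : Polynomial F) = Polynomial.X ^ 2 + Polynomial.C 1 by simp]
      exact Polynomial.degree_X_pow_add_C (by norm_num) 1)
    (Nat.odd_iff.mp hF)
  simp at hab
  let I : SpecialLinearGroup (Fin 2) F := ⟨!![0, 1; -1, 0], by simp [Matrix.det_fin_two]⟩
  let J : SpecialLinearGroup (Fin 2) F := ⟨!![a, b; b, -a], by
    rw [Matrix.det_fin_two]; simp; linear_combination -hab⟩
  have hI4 : I ^ 2 ^ 2 = 1 := by
    apply Subtype.ext
    show (!![0, 1; -1, 0] : Matrix (Fin 2) (Fin 2) F) ^ 2 ^ 2 = 1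
    norm_num [pow_succ]
    ext i j; fin_cases i <;> fin_cases j <;> simp [Matrix.mul_apply, Fin.sum_univ_two]
  have hJ4 : J ^ 2 ^ 2 = 1 := by
    apply Subtype.ext
    show (!![a, b; b, -a] : Matrix (Fin 2) (Fin 2) F) ^ 2 ^ 2 = 1
    norm_num [pow_succ]
    ext i j; fin_cases i <;> fin_cases j <;> simp [Matrix.mul_apply, Fin.sum_univ_two] <;> grind
  have hJI : J * I * J⁻¹ = I ^ 3 := by
    rw [mul_inv_eq_iff_eq_mul]
    apply Subtype.ext
    show (!![a, b; b, -a] : Matrix (Fin 2) (Fin 2) F) * !![0, 1; -1, 0]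
      = (!![0, 1; -1, 0] : Matrix (Fin 2) (Fin 2) F) ^ 3 * !![a, b; b, -a]
    norm_num [pow_succ]
  refine ⟨Subgroup.zpowers J ⊔ Subgroup.zpowers I, ?_, I,
    Subgroup.mem_sup_right (Subgroup.mem_zpowers I), J,
    Subgroup.mem_sup_left (Subgroup.mem_zpowers J), ?_⟩
  · refine IsPGroup.to_sup_of_normal_right' (isPGroup_zpowers' J 2 hJ4) (isPGroup_zpowers' I 2 hI4) ?_
    rw [Subgroup.zpowers_le]
    apply Subgroup.mem_normalizer_fintype
    rintro _ ⟨k, rfl⟩
    show J * I ^ k * J⁻¹ ∈ Subgroup.zpowers I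
    rw [← conj_zpow, hJI]
    exact Subgroup.zpow_mem _ (Subgroup.pow_mem _ (Subgroup.mem_zpowers I) _) _
  · intro h
    have hm : (!![0, 1; -1, 0] : Matrix (Fin 2) (Fin 2) F) * !![a, b; b, -a]
      = !![a, b; b, -a] * !![0, 1; -1, 0] := congrArg Subtype.val h
    have e00 := congrFun (congrFun hm 0) 0
    have e01 := congrFun (congrFun hm 0) 1
    simp [Matrix.mul_apply, Fin.sum_univ_two] at e00 e01
    have hb0 : b = 0 := by
      have : 2 * b = 0 := by linear_combination e00
      exact (mul_eq_zero.mp this).resolve_left h2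
    have ha0 : a = 0 := by
      have : 2 * a = 0 := by linear_combination -e01
      exact (mul_eq_zero.mp this).resolve_left h2
    rw [ha0, hb0] at hab
    simp at hab

theorem EPs_sl2 [Fintype F] (hF : Odd (Fintype.card F))
    (S : Sylow 2 (SpecialLinearGroup (Fin 2) F)) :
    EPs 2 (⊤ : Subgroup ↥(S : Subgroup (SpecialLinearGroup (Fin 2) F))) := by
  classical
  have h2 : (2 : F) ≠ 0 := by
    apply Ring.two_ne_zero
    intro h
    rw [FiniteField.even_card_iff_char_two] at h
    obtain ⟨k, hk⟩ := hF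
    omega
  have : Fact (Nat.Prime 2) := ⟨Nat.prime_two⟩
  -- non-abelian
  obtain ⟨T, hT, x, hx, y, hy, hxy⟩ := sl2_nonabelian hF
  obtain ⟨S', hS'⟩ := hT.exists_le_sylow
  let e := Sylow.equiv S' S
  have hna : e ⟨x, hS' hx⟩ * e ⟨y, hS' hy⟩ ≠ e ⟨y, hS' hy⟩ * e ⟨x, hS' hx⟩ := by
    rw [← map_mul, ← map_mul]
    intro h
    exact hxy (congrArg Subtype.val (e.injective h))
  -- an involution
  have hne : ∃ w : ↥(S : Subgroup (SpecialLinearGroup (Fin 2) F)), w ≠ 1 := by
    by_contra hcon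
    push Not at hcon
    apply hna
    rw [hcon (e ⟨x, hS' hx⟩), hcon (e ⟨y, hS' hy⟩)]
  have hdvd : 2 ∣ Nat.card ↥(S : Subgroup (SpecialLinearGroup (Fin 2) F)) := by
    obtain ⟨k, hk⟩ := IsPGroup.iff_card.mp S.isPGroup'
    rw [hk]
    rcases Nat.eq_zero_or_pos k with rfl | hk0
    · exfalso
      obtain ⟨w, hw⟩ := hne
      rw [pow_zero, Nat.card_eq_one_iff_unique] at hk
      exact hw (hk.1.elim _ _)
    · exact dvd_pow_self 2 hk0.ne'
  obtain ⟨z, hz⟩ := exists_prime_orderOf_dvd_card' 2 hdvd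
  have hz1 : z ≠ 1 := by
    intro h; rw [h, orderOf_one] at hz; norm_num at hz
  have hz2 : z ^ 2 = 1 := by
    have := pow_orderOf_eq_one z
    rwa [hz] at this
  have hinv : ∀ w : ↥(S : Subgroup (SpecialLinearGroup (Fin 2) F)), w ^ 2 = 1 → w = 1 ∨ w.1 = -1 := by
    intro w hw
    have h1 : w.1 * w.1 = 1 := by
      rw [← pow_two]; exact congrArg Subtype.val hw
    rcases sl2_invol h2 w.1 h1 with h | h
    · exact Or.inl (Subtype.ext h)
    · exact Or.inr h
  have hzv : z.1 = -1 := (hinv z hz2).resolve_left hz1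
  have hU : Cfsg.Agent.Lib.Helper18.UInv ↥(S : Subgroup (SpecialLinearGroup (Fin 2) F)) z :=
    ⟨fun w => S.isPGroup' w, hz1, hz2, fun w hw => (hinv w hw).imp id
      (fun h => Subtype.ext (h.trans hzv.symm))⟩
  rcases hU.cyclic_or_quaternion with hc | ⟨k, ⟨f⟩⟩
  · exfalso
    obtain ⟨g, hg⟩ := hc.exists_generator
    obtain ⟨i, hi⟩ := hg (e ⟨x, hS' hx⟩)
    obtain ⟨j, hj⟩ := hg (e ⟨y, hS' hy⟩)
    apply hna
    rw [← hi, ← hj]
    show g ^ i * g ^ j = g ^ j * g ^ i
    rw [← _root_.zpow_add, ← _root_.zpow_add, add_comm]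
  · rcases Nat.eq_zero_or_pos k with rfl | hk0
    · exfalso
      obtain ⟨g, hg⟩ := QuaternionGroup.quaternionGroup_one_isCyclic.exists_generator
      obtain ⟨i, hi⟩ := hg (f (e ⟨x, hS' hx⟩))
      obtain ⟨j, hj⟩ := hg (f (e ⟨y, hS' hy⟩))
      apply hna
      apply f.injective
      rw [map_mul, map_mul, ← hi, ← hj]
      show g ^ i * g ^ j = g ^ j * g ^ i
      rw [← _root_.zpow_add, ← _root_.zpow_add, add_comm]
    · obtain ⟨k', hk'⟩ : ∃ k', 2 ^ k = 2 * (k' + 1) := by
        obtain ⟨t, rfl⟩ : ∃ t, k = t + 1 := ⟨k - 1, by omega⟩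
        have : 1 ≤ 2 ^ t := Nat.one_le_two_pow
        exact ⟨2 ^ t - 1, by rw [pow_succ]; omega⟩
      rw [hk'] at f
      exact EPs_top_of_equiv f.symm (EPs_quaternion k')

end SL2

end Cfsg.Agent.Lib.Helper6.EPowSp
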