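import Mathlib
import Cfsg.Agent.Lib.Helper6.EPowSp

set_option autoImplicit false

namespace Cfsg.Agent.Lib.Helper6.EPowSL2

section L2

open Cfsg.Agent.Lib.Helper6.EPow Cfsg.Agent.Lib.Helper6.EPowSp

variable {G : Type*} [Group G] {p : ℕ}

/-- elements of `R` whose `p`-th power lies in `R'` -/
def sqK (p : ℕ) (R : Subgroup G) : Subgroup G :=
  (((powMonoidHom p).comp Abelianization.of : ↥R →* Abelianization ↥R).ker).map R.subtype

theorem mem_sqK {R : Subgroup G} {x : G} : x ∈ sqK p R ↔ x ∈ R ∧ x ^ p ∈ ⁅R, R⁆ := by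
  have hψ : ∀ y : ↥R,
      y ∈ ((powMonoidHom p).comp Abelianization.of : ↥R →* Abelianization ↥R).ker
        ↔ y ^ p ∈ commutator ↥R := by
    intro y
    rw [MonoidHom.mem_ker]
    show (Abelianization.of y) ^ p = 1 ↔ _
    rw [← map_pow, ← MonoidHom.mem_ker, Abelianization.ker_of]
  constructor
  · rintro ⟨y, hy, rfl⟩
    refine ⟨y.2, ?_⟩
    rw [← Subgroup.map_subtype_commutator]
    exact ⟨y ^ p, (hψ y).mp hy, rfl⟩
  · rintro ⟨hx, h1⟩
    refine ⟨⟨x, hx⟩, ?_, rfl⟩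
    rw [SetLike.mem_coe, hψ]
    rw [← Subgroup.map_subtype_commutator] at h1
    obtain ⟨c, hc, hcx⟩ := h1
    have : c = (⟨x, hx⟩ : ↥R) ^ p := Subtype.ext hcx
    rwa [← this]

theorem EPs_of_le_sqK {R : Subgroup G} (h : R ≤ sqK p R) : EPs p R :=
  fun x hx => (mem_sqK.mp (h hx)).2

theorem le_sqK_of_EPs {R H : Subgroup G} (hHR : H ≤ R) (h : EPs p H) : H ≤ sqK p R :=
  fun x hx => mem_sqK.mpr ⟨hHR hx, Subgroup.commutator_mono hHR hHR (h x hx)⟩

theorem EPs_of_big [Finite G] [Fact p.Prime] (R : Subgroup G) (hR : IsPGroup p R)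
    (hcard : p ^ (Nat.card G).factorization p ≤ Nat.card R) (h : EPs p R) (P : Sylow p G) :
    EPs p (P : Subgroup G) := by
  refine EPs_sylow R ⊥ hR IsPGroup.of_bot ?_ ?_ ?_ h (EPs_of_card_one (by simp)) P
  · rintro t ht q hq
    rw [Subgroup.mem_bot] at ht
    subst ht
    simpa using hq
  · intro x _ hx
    exact Subgroup.mem_bot.mp hx
  · simpa using hcard

theorem sup_facts [Finite G] [Fact p.Prime] (Q T : Subgroup G) (hQp : IsPGroup p Q)
    (hTp : IsPGroup p T) (hN : ∀ t ∈ T, ∀ q ∈ Q, t * q * t⁻¹ ∈ Q)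
    (hD : ∀ x, x ∈ Q → x ∈ T → x = 1) :
    IsPGroup p (T ⊔ Q : Subgroup G) ∧ Nat.card Q * Nat.card T ≤ Nat.card (T ⊔ Q : Subgroup G) := by
  constructor
  · refine IsPGroup.to_sup_of_normal_right' hTp hQp ?_
    intro t ht
    exact Subgroup.mem_normalizer_fintype (fun q hq => hN t ht q hq)
  · rw [← Nat.card_prod]
    have hdis : Disjoint Q T := Subgroup.disjoint_def.mpr (fun {x} h1 h2 => hD x h1 h2)
    refine Nat.card_le_card_of_injective
      (fun g : Q × T => (⟨g.1 * g.2, Subgroup.mul_mem _ (Subgroup.mem_sup_right g.1.2)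
        (Subgroup.mem_sup_left g.2.2)⟩ : (T ⊔ Q : Subgroup G))) ?_
    intro a b hab
    exact Subgroup.mul_injective_of_disjoint hdis (congrArg Subtype.val hab)

theorem card_ker_ge {H A : Type*} [Group H] [Finite H] [Group A] [Finite A] [Fact p.Prime]
    (hH : IsPGroup p H) (δ : H →* A) :
    Nat.card H ≤ Nat.card δ.ker * p ^ (Nat.card A).factorization p := by
  have h1 := Subgroup.card_mul_index δ.ker
  rw [Subgroup.index_ker] at h1
  rw [← h1]
  apply Nat.mul_le_mul_left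
  have h2 : IsPGroup p δ.range := by
    rw [MonoidHom.range_eq_map]
    exact IsPGroup.map (hH.to_subgroup ⊤) δ
  obtain ⟨S, hS⟩ := h2.exists_le_sylow
  calc Nat.card δ.range ≤ Nat.card S := Subgroup.card_le_of_le hS
    _ = _ := S.card_eq_multiplicity

end L2

end Cfsg.Agent.Lib.Helper6.EPowSL2
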