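import Mathlib

set_option autoImplicit false

namespace Cfsg.Agent.Lib.Helper6.SylLarge

open Polynomial

variable {q r : ℕ} [hr : Fact r.Prime]

omit hr in
theorem q_pos (hrq : ¬ r ∣ q) : 0 < q := Nat.pos_of_ne_zero (by rintro rfl; exact hrq (dvd_zero r))

theorem dvd_iff (hrq : ¬ r ∣ q) (j : ℕ) : r ∣ q ^ j - 1 ↔ orderOf (q : ZMod r) ∣ j := by
  rw [orderOf_dvd_iff_pow_eq_one, ← ZMod.natCast_eq_zero_iff,
    Nat.cast_sub (Nat.one_le_pow _ _ (q_pos hrq)), sub_eq_zero]
  simp

theorem d_pos (hrq : ¬ r ∣ q) : 0 < orderOf (q : ZMod r) := by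
  rw [orderOf_pos_iff, isOfFinOrder_iff_pow_eq_one]
  refine ⟨r - 1, ?_, ZMod.pow_card_sub_one_eq_one ?_⟩
  · have := hr.out.two_le
    omega
  · rwa [Ne, ZMod.natCast_eq_zero_iff]

theorem fac_not_dvd (hrq : ¬ r ∣ q) (j : ℕ) (hj : ¬ orderOf (q : ZMod r) ∣ j) :
    (q ^ j - 1).factorization r = 0 :=
  Nat.factorization_eq_zero_of_not_dvd (by rwa [dvd_iff hrq])

theorem fac_dvd (hrq : ¬ r ∣ q) (k : ℕ) (hk : ¬ r ∣ k) :
    (q ^ (orderOf (q : ZMod r) * k) - 1).factorization r
      = (q ^ orderOf (q : ZMod r) - 1).factorization r := by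
  obtain ⟨y, hy⟩ : ∃ y, q ^ orderOf (q : ZMod r) = y + 1 :=
    ⟨q ^ orderOf (q : ZMod r) - 1, by have := Nat.one_le_pow (orderOf (q : ZMod r)) q (q_pos hrq); omega⟩
  have hry : r ∣ y := by
    have := (dvd_iff hrq (orderOf (q : ZMod r))).mpr dvd_rfl
    rwa [hy, Nat.add_sub_cancel] at this
  have h1 := geom_sum_mul_add y k
  rw [pow_mul, hy, ← h1, Nat.add_sub_cancel, Nat.add_sub_cancel]
  by_cases hy0 : y = 0
  · simp [hy0]
  have hS : ¬ r ∣ ∑ i ∈ Finset.range k, (y + 1) ^ i := by
    rw [← ZMod.natCast_eq_zero_iff]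
    have hy' : (y : ZMod r) = 0 := (ZMod.natCast_eq_zero_iff _ _).mpr hry
    push_cast
    rw [hy']
    simp
    rwa [ZMod.natCast_eq_zero_iff]
  have hS0 : ∑ i ∈ Finset.range k, (y + 1) ^ i ≠ 0 := by
    intro h0; rw [h0] at hS; exact hS (dvd_zero r)
  rw [Nat.factorization_mul hS0 hy0, Finsupp.add_apply, Nat.factorization_eq_zero_of_not_dvd hS,
    zero_add]

theorem fac_GL (hrq : ¬ r ∣ q) (hq2 : 2 ≤ q) (n : ℕ) (hn : n < r) :
    (∏ i : Fin n, (q ^ n - q ^ (i : ℕ))).factorization r
      = (q ^ orderOf (q : ZMod r) - 1).factorization r * (n / orderOf (q : ZMod r)) := by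
  set d := orderOf (q : ZMod r) with hd
  set E := (q ^ d - 1).factorization r with hE
  rw [Fin.prod_univ_eq_prod_range (fun i => q ^ n - q ^ i) n]
  have hne : ∀ i ∈ Finset.range n, q ^ n - q ^ i ≠ 0 := by
    intro i hi
    have := Nat.pow_lt_pow_right (show 1 < q by omega) (Finset.mem_range.mp hi)
    omega
  rw [Nat.factorization_prod hne, Finsupp.finsetSum_apply]
  have key : ∀ i ∈ Finset.range n, (q ^ n - q ^ i).factorization r
      = (fun j => if d ∣ j + 1 then E else 0) (n - 1 - i) := by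
    intro i hi
    have hi' := Finset.mem_range.mp hi
    obtain ⟨j, hj⟩ : ∃ j, n - 1 - i = j := ⟨_, rfl⟩
    have hnj : n = i + (j + 1) := by omega
    have h1 : q ^ n - q ^ i = q ^ i * (q ^ (j + 1) - 1) := by
      rw [hnj, pow_add, Nat.mul_sub, mul_one]
    have h2 : q ^ (j + 1) - 1 ≠ 0 := by
      have := Nat.one_lt_pow (show j + 1 ≠ 0 by omega) (show 1 < q by omega)
      omega
    have h3 : ¬ r ∣ q ^ i := fun h => hrq (hr.out.dvd_of_dvd_pow h)
    rw [h1, Nat.factorization_mul (pow_ne_zero _ (by omega)) h2, Finsupp.add_apply,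
      Nat.factorization_eq_zero_of_not_dvd h3, zero_add, hj]
    beta_reduce
    split_ifs with hdj
    · obtain ⟨k, hk⟩ := hdj
      rw [hk]
      apply fac_dvd hrq
      have hk0 : 0 < k := Nat.pos_of_ne_zero (by rintro rfl; simp at hk)
      have hkle : k ≤ j + 1 := by
        rw [hk]; exact Nat.le_mul_of_pos_left _ (d_pos hrq)
      exact Nat.not_dvd_of_pos_of_lt hk0 (by omega)
    · exact fac_not_dvd hrq _ hdj
  rw [Finset.sum_congr rfl key, Finset.sum_range_reflect (fun j => if d ∣ j + 1 then E else 0) n,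
    ← Finset.sum_filter, Finset.sum_const, Nat.card_multiples, smul_eq_mul, mul_comm]

theorem E_eq (hrq : ¬ r ∣ q) (hq2 : 2 ≤ q) :
    (q ^ orderOf (q : ZMod r) - 1).factorization r
      = padicValNat r ((cyclotomic (orderOf (q : ZMod r)) ℤ).eval (q : ℤ)).natAbs := by
  set d := orderOf (q : ZMod r) with hd
  have hd0 : 0 < d := d_pos hrq
  have h1 := congrArg (Polynomial.eval (q : ℤ)) (prod_cyclotomic_eq_X_pow_sub_one hd0 ℤ)
  rw [Polynomial.eval_prod, ← Finset.prod_erase_mul _ _ (Nat.mem_divisors_self d hd0.ne')] at h1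
  simp only [eval_sub, eval_pow, eval_X, eval_one] at h1
  set R := ∏ x ∈ d.divisors.erase d, eval (q : ℤ) (cyclotomic x ℤ) with hR
  have hcast : ∀ i : ℕ, ((q ^ i - 1 : ℕ) : ℤ) = (q : ℤ) ^ i - 1 := by
    intro i
    rw [Nat.cast_sub (Nat.one_le_pow _ _ (q_pos hrq))]
    push_cast
    rfl
  have h2 : q ^ d - 1 = R.natAbs * ((cyclotomic d ℤ).eval (q : ℤ)).natAbs := by
    rw [← Int.natAbs_mul, h1, ← hcast, Int.natAbs_natCast]
  have hne : q ^ d - 1 ≠ 0 := by
    have := Nat.one_lt_pow hd0.ne' (show 1 < q by omega)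
    omega
  have hRr : ¬ r ∣ R.natAbs := by
    rw [← Int.natCast_dvd]
    intro hdvd
    obtain ⟨i, hi, hir⟩ := (Nat.prime_iff_prime_int.mp hr.out).exists_mem_finset_dvd hdvd
    rw [Finset.mem_erase, Nat.mem_divisors] at hi
    have h3 : (r : ℤ) ∣ (q : ℤ) ^ i - 1 := by
      have := Polynomial.eval_dvd (x := (q : ℤ)) (cyclotomic.dvd_X_pow_sub_one i ℤ)
      simp only [eval_sub, eval_pow, eval_X, eval_one] at this
      exact hir.trans this
    rw [← hcast, Int.natCast_dvd_natCast, dvd_iff hrq] at h3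
    exact hi.1 (Nat.dvd_antisymm hi.2.1 h3)
  have hR0 : R.natAbs ≠ 0 := by
    intro h0; rw [h0] at hRr; exact hRr (dvd_zero r)
  have hC0 : ((cyclotomic d ℤ).eval (q : ℤ)).natAbs ≠ 0 := by
    intro h0; rw [h0, mul_zero] at h2; exact hne h2
  rw [h2, Nat.factorization_mul hR0 hC0, Finsupp.add_apply,
    Nat.factorization_eq_zero_of_not_dvd hRr, zero_add, Nat.factorization_def _ hr.out]

omit hr in
theorem cyc {G : Type*} [Group G] [hG : IsCyclic G] (m : ℕ) (h : Nat.card G = m) :
    Nonempty (Multiplicative (ZMod m) ≃* G) := by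
  subst h
  exact ⟨zmodCyclicMulEquiv hG⟩

omit hr in
theorem exists_unit_order' {F : Type*} [Field F] [Fintype F] (d : ℕ)
    (hd : d ∣ Fintype.card F - 1) : ∃ u : Fˣ, orderOf u = d := by
  classical
  obtain ⟨g, hg⟩ := IsCyclic.exists_ofOrder_eq_natCard (α := Fˣ)
  rw [Nat.card_eq_fintype_card, Fintype.card_units] at hg
  obtain ⟨e, he⟩ := hd
  have hN : Fintype.card F - 1 ≠ 0 := by
    have := Fintype.one_lt_card (α := F)
    omega
  have he0 : e ≠ 0 := by rintro rfl; simp at he; exact hN he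
  refine ⟨g ^ e, ?_⟩
  rw [orderOf_pow_of_dvd he0 (by rw [hg, he]; exact Dvd.intro_left _ rfl), hg, he]
  exact Nat.mul_div_cancel _ (Nat.pos_of_ne_zero he0)

open Matrix in
omit hr in
/-- an injective homomorphism `(C_m)^a → GL_n(F)` when `m ∣ q^d - 1` and `a d ≤ n`. -/
theorem exists_embed {F : Type*} [Field F] [Fintype F] (n d a m : ℕ) (hd : 0 < d)
    (had : a * d ≤ n) (hm : m ∣ Fintype.card F ^ d - 1) :
    ∃ Θ : (Fin a → Multiplicative (ZMod m)) →* GL (Fin n) F, Function.Injective Θ := by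
  classical
  obtain ⟨p, hp⟩ := CharP.exists F
  obtain ⟨_, hpp, -⟩ := FiniteField.card F p
  have : Fact p.Prime := ⟨hpp⟩
  have : NeZero d := ⟨hd.ne'⟩
  let K := FiniteField.Extension F p d
  have : Fintype K := Fintype.ofFinite K
  have hK : Fintype.card K = Fintype.card F ^ d := by
    rw [← Nat.card_eq_fintype_card, FiniteField.natCard_extension, Nat.card_eq_fintype_card]
  obtain ⟨ξ, hξ⟩ := exists_unit_order' (F := K) m (by rw [hK]; exact hm)
  obtain ⟨c⟩ := cyc (G := Subgroup.zpowers ξ) m (by rw [Nat.card_zpowers, hξ])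
  let γ : Multiplicative (ZMod m) →* Kˣ := (Subgroup.zpowers ξ).subtype.comp c.toMonoidHom
  have hγ : Function.Injective γ := Subtype.val_injective.comp c.injective
  obtain ⟨b, hb⟩ : ∃ b, n = a * d + b := ⟨n - a * d, by omega⟩
  let A := (Fin a → K) × (Fin b → F)
  have hfr : Module.finrank F A = n := by
    rw [Module.finrank_prod, Module.finrank_pi_fintype, Module.finrank_fin_fun, hb]
    simp [K, FiniteField.finrank_extension]
  let bs : Module.Basis (Fin n) F A := Module.finBasisOfFinrankEq F A hfr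
  let τ : (Module.End F A)ˣ ≃* GL (Fin n) F := Units.mapEquiv (LinearMap.toMatrixAlgEquiv bs).toMulEquiv
  let Lm : Aˣ →* (Module.End F A)ˣ := Units.map (Algebra.lmul F A).toMonoidHom
  have hLm : Function.Injective Lm := Units.map_injective Algebra.lmul_injective
  let ι : (Fin a → Kˣ) →* Aˣ :=
    (MulEquiv.prodUnits.symm.toMonoidHom.comp (MonoidHom.inl _ _)).comp
      MulEquiv.piUnits.symm.toMonoidHom
  have hι : Function.Injective ι := by
    refine (MulEquiv.prodUnits.symm.injective.comp ?_).comp MulEquiv.piUnits.symm.injective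
    intro x y h
    exact (Prod.ext_iff.mp h).1
  refine ⟨τ.toMonoidHom.comp (Lm.comp (ι.comp (γ.compLeft (Fin a)))), ?_⟩
  refine τ.injective.comp (hLm.comp (hι.comp ?_))
  intro x y h
  funext i
  exact hγ (congrFun h i)

open Matrix in
omit hr in
/-- the same inside `SL_n(F)` when moreover `m` is prime to `q - 1`. -/
theorem exists_embed_SL {F : Type*} [Field F] [Fintype F] (n d a m : ℕ) (hd : 0 < d)
    (had : a * d ≤ n) (hm : m ∣ Fintype.card F ^ d - 1) (hm0 : m ≠ 0)
    (hcop : Nat.Coprime m (Fintype.card F - 1)) :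
    ∃ Θ : (Fin a → Multiplicative (ZMod m)) →* SpecialLinearGroup (Fin n) F,
      Function.Injective Θ := by
  classical
  obtain ⟨Θ, hΘ⟩ := exists_embed (F := F) n d a m hd had hm
  have : NeZero m := ⟨hm0⟩
  have hX : Nat.card (Fin a → Multiplicative (ZMod m)) = m ^ a := by
    rw [Nat.card_fun, Nat.card_eq_fintype_card (α := Fin _), Fintype.card_fin]
    congr 1
    exact Nat.card_zmod _
  have hdet : ∀ x, ((Θ x : GL (Fin n) F) : Matrix (Fin n) (Fin n) F).det = 1 := by
    intro x
    have h1 : (GeneralLinearGroup.det (Θ x)) ^ (m ^ a) = 1 := by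
      rw [← map_pow, ← map_pow, ← hX, pow_card_eq_one', map_one, map_one]
    have h2 : (GeneralLinearGroup.det (Θ x)) ^ (Fintype.card F - 1) = 1 := by
      rw [← Fintype.card_units, pow_card_eq_one]
    have h3 := Nat.dvd_gcd (orderOf_dvd_of_pow_eq_one h1) (orderOf_dvd_of_pow_eq_one h2)
    rw [Nat.Coprime.pow_left a hcop, Nat.dvd_one, orderOf_eq_one_iff] at h3
    exact congrArg Units.val h3
  refine ⟨{ toFun := fun x => ⟨_, hdet x⟩
            map_one' := by apply Subtype.ext; simp
            map_mul' := fun x y => by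
              apply Subtype.ext
              show ((Θ (x * y) : GL (Fin n) F) : Matrix (Fin n) (Fin n) F)
                = ((Θ x : GL (Fin n) F) : Matrix (Fin n) (Fin n) F) * (Θ y : GL (Fin n) F)
              rw [map_mul, Units.val_mul] }, ?_⟩
  intro x y h
  apply hΘ
  apply Units.ext
  exact congrArg Subtype.val h

open Matrix in
omit hr in
/-- diagonal embedding `(C_m)^k → SL_{k+1}(F)` when `m ∣ q - 1`. -/
theorem exists_embed_SL_one {F : Type*} [Field F] [Fintype F] (k m : ℕ)
    (hm : m ∣ Fintype.card F - 1) :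
    ∃ Θ : (Fin k → Multiplicative (ZMod m)) →* SpecialLinearGroup (Fin (k + 1)) F,
      Function.Injective Θ := by
  classical
  obtain ⟨ξ, hξ⟩ := exists_unit_order' (F := F) m hm
  obtain ⟨c⟩ := cyc (G := Subgroup.zpowers ξ) m (by rw [Nat.card_zpowers, hξ])
  let γ : Multiplicative (ZMod m) →* Fˣ := (Subgroup.zpowers ξ).subtype.comp c.toMonoidHom
  have hγ : Function.Injective γ := Subtype.val_injective.comp c.injective
  let W : (Fin k → Multiplicative (ZMod m)) → Fin (k + 1) → Fˣ :=
    fun x => Fin.cons (∏ i, γ (x i))⁻¹ (fun i => γ (x i))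
  have hW1 : W 1 = 1 := by
    funext i
    refine Fin.cases ?_ (fun j => ?_) i <;> simp [W]
  have hWm : ∀ x y, W (x * y) = W x * W y := by
    intro x y
    funext i
    refine Fin.cases ?_ (fun j => ?_) i
    · simp [W, Finset.prod_mul_distrib, mul_comm]
    · simp [W]
  have hdet : ∀ x, (Matrix.diagonal (fun i => ((W x i : Fˣ) : F))).det = 1 := by
    intro x
    rw [Matrix.det_diagonal, Fin.prod_univ_succ]
    simp only [W, Fin.cons_zero, Fin.cons_succ]
    rw [← Units.coe_prod, ← Units.val_mul, inv_mul_cancel, Units.val_one]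
  refine ⟨{ toFun := fun x => ⟨_, hdet x⟩
            map_one' := by
              apply Subtype.ext
              show Matrix.diagonal (fun i => ((W 1 i : Fˣ) : F)) = 1
              rw [hW1]; simp
            map_mul' := fun x y => by
              apply Subtype.ext
              show Matrix.diagonal (fun i => ((W (x * y) i : Fˣ) : F))
                = Matrix.diagonal (fun i => ((W x i : Fˣ) : F))
                  * Matrix.diagonal (fun i => ((W y i : Fˣ) : F))
              rw [hWm, Matrix.diagonal_mul_diagonal]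
              simp }, ?_⟩
  intro x y h
  have h1 : Matrix.diagonal (fun i => ((W x i : Fˣ) : F))
      = Matrix.diagonal (fun i => ((W y i : Fˣ) : F)) := congrArg Subtype.val h
  have h2 := Matrix.diagonal_injective h1
  funext j
  have h3 := congrFun h2 j.succ
  simp only [W, Fin.cons_succ] at h3
  exact hγ (Units.ext h3)

end Cfsg.Agent.Lib.Helper6.SylLarge
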