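import Mathlib

set_option autoImplicit false

namespace Cfsg.Agent.Lib.Helper6

universe u v

variable {F : Type u} [Field F]

/-- A symplectic family: hyperbolic pairs `e i, f i` plus independent radical vectors `r j`,
together spanning the space. -/
theorem exists_symp_family {V : Type v} [AddCommGroup V] [Module F V] [FiniteDimensional F V]
    (B : LinearMap.BilinForm F V) (hA : B.IsAlt) :
    ∃ (m k : ℕ) (e f : Fin m → V) (r : Fin k → V),
      (∀ i j, B (e i) (f j) = if i = j then 1 else 0) ∧ (∀ i j, B (e i) (e j) = 0) ∧
      (∀ i j, B (f i) (f j) = 0) ∧ (∀ j x, B (r j) x = 0) ∧ LinearIndependent F r ∧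
      ∀ x : V, ∃ (a b : Fin m → F) (c : Fin k → F),
        x = ∑ i, a i • e i + ∑ i, b i • f i + ∑ j, c j • r j := by
  induction hn : Module.finrank F V using Nat.strong_induction_on generalizing V with
  | _ n ih =>
    by_cases hB0 : ∀ u v, B u v = 0
    · refine ⟨0, Module.finrank F V, Fin.elim0, Fin.elim0, Module.finBasis F V,
        fun i => i.elim0, fun i => i.elim0, fun i => i.elim0, fun j x => hB0 _ _,
        (Module.finBasis F V).linearIndependent, fun x => ?_⟩
      refine ⟨Fin.elim0, Fin.elim0, (Module.finBasis F V).repr x, ?_⟩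
      simp [(Module.finBasis F V).sum_repr x]
    · push Not at hB0
      obtain ⟨u, v0, huv0⟩ := hB0
      set v := (B u v0)⁻¹ • v0 with hv
      have huv : B u v = 1 := by
        rw [hv, map_smul, smul_eq_mul, inv_mul_cancel₀ huv0]
      have hsw : ∀ x y, B x y = - B y x := fun x y => (LinearMap.IsAlt.neg hA y x).symm
      have hvu : B v u = -1 := by rw [hsw, huv]
      let W : Submodule F V := LinearMap.ker (B u) ⊓ LinearMap.ker (B v)
      have hWu : ∀ w ∈ W, B u w = 0 := fun w hw => hw.1
      have hWv : ∀ w ∈ W, B v w = 0 := fun w hw => hw.2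
      have hWne : W ≠ ⊤ := by
        intro h
        have : u ∈ W := by rw [h]; trivial
        have := hWv u this
        rw [hvu] at this
        simp at this
      have hlt : Module.finrank F W < n := by
        rw [← hn]; exact Submodule.finrank_lt hWne
      have hA' : (B.restrict W).IsAlt := fun x => hA x
      obtain ⟨m, k, e, f, r, hef, hee, hff, hr, hli, hsp⟩ := ih _ hlt (B.restrict W) hA' rfl
      have hdec : ∀ x : V, x - (B x v) • u + (B x u) • v ∈ W := by
        intro x
        constructor
        · change B u _ = 0
          simp only [map_add, map_sub, map_smul, smul_eq_mul, hA u, huv]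
          rw [hsw u x]; ring
        · change B v _ = 0
          simp only [map_add, map_sub, map_smul, smul_eq_mul, hA v, hvu]
          rw [hsw v x]; ring
      refine ⟨m + 1, k, Fin.cons u (fun i => (e i : V)), Fin.cons v (fun i => (f i : V)),
        fun j => (r j : V), ?_, ?_, ?_, ?_, ?_, ?_⟩
      · intro i j
        refine Fin.cases ?_ (fun i => ?_) i <;> refine Fin.cases ?_ (fun j => ?_) j
        · simpa using huv
        · simp only [Fin.cons_zero, Fin.cons_succ]
          rw [hWu _ (f j).2, if_neg (Fin.succ_ne_zero j).symm]
        · simp only [Fin.cons_zero, Fin.cons_succ]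
          rw [hsw, hWv _ (e i).2, if_neg (Fin.succ_ne_zero i), neg_zero]
        · simp only [Fin.cons_succ, Fin.succ_inj]
          exact hef i j
      · intro i j
        refine Fin.cases ?_ (fun i => ?_) i <;> refine Fin.cases ?_ (fun j => ?_) j
        · simpa using hA u
        · simp only [Fin.cons_zero, Fin.cons_succ]
          exact hWu _ (e j).2
        · simp only [Fin.cons_zero, Fin.cons_succ]
          rw [hsw, hWu _ (e i).2, neg_zero]
        · simp only [Fin.cons_succ]
          exact hee i j
      · intro i j
        refine Fin.cases ?_ (fun i => ?_) i <;> refine Fin.cases ?_ (fun j => ?_) j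
        · simpa using hA v
        · simp only [Fin.cons_zero, Fin.cons_succ]
          exact hWv _ (f j).2
        · simp only [Fin.cons_zero, Fin.cons_succ]
          rw [hsw, hWv _ (f i).2, neg_zero]
        · simp only [Fin.cons_succ]
          exact hff i j
      · intro j x
        have h1 : B (r j : V) (x - (B x v) • u + (B x u) • v) = 0 := hr j ⟨_, hdec x⟩
        have h2 : B (r j : V) u = 0 := by rw [hsw, hWu _ (r j).2, neg_zero]
        have h3 : B (r j : V) v = 0 := by rw [hsw, hWv _ (r j).2, neg_zero]
        simp only [map_add, map_sub, map_smul, h2, h3, smul_zero, sub_zero, add_zero] at h1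
        exact h1
      · exact hli.map' W.subtype (Submodule.ker_subtype W)
      · intro x
        obtain ⟨a, b, c, habc⟩ := hsp ⟨_, hdec x⟩
        refine ⟨Fin.cons (B x v) a, Fin.cons (- B x u) b, c, ?_⟩
        have h1 := congrArg Subtype.val habc
        simp only [Submodule.coe_add, Submodule.coe_sum, Submodule.coe_smul] at h1
        simp only [Fin.sum_univ_succ, Fin.cons_zero, Fin.cons_succ]
        have h2 : x = (x - (B x v) • u + (B x u) • v) + (B x v) • u - (B x u) • v := by abel
        rw [h1] at h2
        rw [neg_smul]
        nth_rewrite 1 [h2]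
        abel

/-- Classification of alternating forms: symplectic basis with radical. -/
theorem exists_symp_basis {V : Type v} [AddCommGroup V] [Module F V] [FiniteDimensional F V]
    (B : LinearMap.BilinForm F V) (hA : B.IsAlt) :
    ∃ (m k : ℕ) (b : Module.Basis ((Fin m ⊕ Fin m) ⊕ Fin k) F V),
      (∀ i j : Fin m, B (b (Sum.inl (Sum.inl i))) (b (Sum.inl (Sum.inr j))) =
        if i = j then 1 else 0) ∧
      (∀ i j : Fin m, B (b (Sum.inl (Sum.inl i))) (b (Sum.inl (Sum.inl j))) = 0) ∧
      (∀ i j : Fin m, B (b (Sum.inl (Sum.inr i))) (b (Sum.inl (Sum.inr j))) = 0) ∧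
      (∀ (j : Fin k) (v : V), B (b (Sum.inr j)) v = 0) := by
  obtain ⟨m, k, e, f, r, hef, hee, hff, hr, hli, hsp⟩ := exists_symp_family B hA
  have hsw : ∀ x y, B x y = - B y x := fun x y => (LinearMap.IsAlt.neg hA y x).symm
  let g : (Fin m ⊕ Fin m) ⊕ Fin k → V := Sum.elim (Sum.elim e f) r
  have hgli : LinearIndependent F g := by
    rw [Fintype.linearIndependent_iff]
    intro c hc
    simp only [Fintype.sum_sum_type, g, Sum.elim_inl, Sum.elim_inr] at hc
    have ha : ∀ j, c (Sum.inl (Sum.inl j)) = 0 := by
      intro j
      have := congrArg (fun x => B x (f j)) hc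
      simp only [map_add, map_sum, map_smul, LinearMap.add_apply, LinearMap.sum_apply,
        LinearMap.smul_apply, hef, hff, hr, smul_eq_mul, mul_zero, Finset.sum_const_zero,
        add_zero, mul_ite, mul_one, Finset.sum_ite_eq', Finset.mem_univ, if_true,
        map_zero, LinearMap.zero_apply] at this
      exact this
    have hb : ∀ j, c (Sum.inl (Sum.inr j)) = 0 := by
      intro j
      have := congrArg (fun x => B x (e j)) hc
      simp only [map_add, map_sum, map_smul, LinearMap.add_apply, LinearMap.sum_apply,
        LinearMap.smul_apply, hee, hr, hsw (f _) (e j), hef, smul_eq_mul, mul_zero,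
        Finset.sum_const_zero, add_zero, zero_add, mul_neg, mul_ite, mul_one,
        Finset.sum_neg_distrib, Finset.sum_ite_eq, Finset.mem_univ, if_true,
        map_zero, LinearMap.zero_apply, neg_eq_zero] at this
      exact this
    have hc' : ∑ j, c (Sum.inr j) • r j = 0 := by
      simpa [ha, hb] using hc
    have hcr := Fintype.linearIndependent_iff.mp hli (fun j => c (Sum.inr j)) hc'
    rintro ((i | i) | j)
    · exact ha i
    · exact hb i
    · exact hcr j
  have hgsp : ⊤ ≤ Submodule.span F (Set.range g) := by
    intro x _
    obtain ⟨a, b, c, rfl⟩ := hsp x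
    refine Submodule.add_mem _ (Submodule.add_mem _ ?_ ?_) ?_
    · exact Submodule.sum_mem _ fun i _ => Submodule.smul_mem _ _
        (Submodule.subset_span ⟨Sum.inl (Sum.inl i), rfl⟩)
    · exact Submodule.sum_mem _ fun i _ => Submodule.smul_mem _ _
        (Submodule.subset_span ⟨Sum.inl (Sum.inr i), rfl⟩)
    · exact Submodule.sum_mem _ fun i _ => Submodule.smul_mem _ _
        (Submodule.subset_span ⟨Sum.inr i, rfl⟩)
  refine ⟨m, k, Module.Basis.mk hgli hgsp, ?_, ?_, ?_, ?_⟩
  · intro i j
    simp only [Module.Basis.mk_apply]
    exact hef i j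
  · intro i j
    simp only [Module.Basis.mk_apply]
    exact hee i j
  · intro i j
    simp only [Module.Basis.mk_apply]
    exact hff i j
  · intro j x
    simp only [Module.Basis.mk_apply]
    exact hr j x

end Cfsg.Agent.Lib.Helper6
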